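import Mathlib
import Cfsg.Agent.Lib.H1.M11U.Defs

/-!
# S0420, piece ACT1 (helper16 twin): the stabiliser of a closed 10-clique has order 720

Core with the black boxes (`semireg`, `card_sylow3_sub`) as explicit hypotheses.
`H = G_C` acts on ordered pairs; the orbit of `(x₀, y₀)` is the set of the 90 ordered pairs of distinct
points of `C`, the stabiliser is `N(x₀) ∩ N(y₀)` of order 8.
-/

set_option autoImplicit false
open scoped Pointwise

universe u

namespace Cfsg.Agent.Lib.H16.M11U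

open Cfsg.Agent.Lib.H1.M11U

variable {G : Type u} [Group G] [Finite G]

theorem a1_smul_eq_iff (g : G) (P : Sylow 3 G) : g • P = P ↔ g ∈ Nrm P :=
  Sylow.smul_eq_iff_mem_normalizer

theorem a1_self_smul {P : Sylow 3 G} {u : G} (hu : u ∈ (P : Subgroup G)) : u • P = P :=
  (a1_smul_eq_iff u P).2 (Subgroup.le_normalizer hu)

section core

variable (hsemi : ∀ {P P' : Sylow 3 G}, P' ≠ P → ∀ {u : G}, u ∈ (P : Subgroup G) → u ≠ 1 → u • P' ≠ P')
  (h9 : ∀ P : Sylow 3 G, Nat.card (P : Subgroup G) = 9)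
  {C : Set (Sylow 3 G)} (hC : C.ncard = 10)
  (hst : ∀ x ∈ C, ∀ u ∈ (x : Subgroup G), ∀ y ∈ C, u • y ∈ C)

include hst in
/-- (A) every member of `C` lies in the stabiliser of `C` -/
theorem a1_le_stab {x : Sylow 3 G} (hx : x ∈ C) {u : G} (hu : u ∈ (x : Subgroup G)) :
    u ∈ MulAction.stabilizer G C := by
  rw [MulAction.mem_stabilizer_iff]
  apply Set.Subset.antisymm
  · rw [Set.smul_set_subset_iff]
    intro y hy
    exact hst x hx u hu y hy
  · rw [Set.subset_smul_set_iff, Set.smul_set_subset_iff]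
    intro y hy
    exact hst x hx u⁻¹ (inv_mem hu) y hy

include hsemi h9 hC hst in
/-- (B) `x` is regular on `C ∖ {x}` -/
theorem a1_regular {x y y' : Sylow 3 G} (hx : x ∈ C) (hy : y ∈ C) (hyx : y ≠ x) (hy' : y' ∈ C)
    (hy'x : y' ≠ x) : ∃ u ∈ (x : Subgroup G), u • y = y' := by
  have hmem : ∀ u : ↥(x : Subgroup G), (u : G) • y ∈ C \ {x} := by
    intro u
    refine ⟨hst x hx u u.2 y hy, ?_⟩
    intro h
    rw [Set.mem_singleton_iff] at h
    apply hyx
    have h2 : y = (u : G)⁻¹ • x := eq_inv_smul_iff.2 h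
    rw [h2, a1_self_smul (inv_mem u.2)]
  let f : ↥(x : Subgroup G) → ↥(C \ {x}) := fun u => ⟨(u : G) • y, hmem u⟩
  have hinj : Function.Injective f := by
    intro u v huv
    have h1 : (u : G) • y = (v : G) • y := congrArg Subtype.val huv
    have h2 : ((v : G)⁻¹ * (u : G)) • y = y := by rw [mul_smul, h1, inv_smul_smul]
    by_contra hne
    have h3 : (v : G)⁻¹ * (u : G) ≠ 1 := by
      intro h
      apply hne
      apply Subtype.ext
      have := inv_mul_eq_one.1 h
      exact this.symm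
    exact hsemi hyx (mul_mem (inv_mem v.2) u.2) h3 h2
  have hfin : Finite ↥(C \ {x}) := Set.finite_coe_iff.2 (Set.toFinite _)
  have hcard : Nat.card ↥(C \ {x}) ≤ Nat.card ↥(x : Subgroup G) := by
    rw [h9 x, Nat.card_coe_set_eq, Set.ncard_sdiff_singleton_of_mem hx, hC]
  have hbij := hinj.bijective_of_nat_card_le hcard
  obtain ⟨u, hu⟩ := hbij.2 ⟨y', hy', by simpa using hy'x⟩
  exact ⟨u, u.2, congrArg Subtype.val hu⟩

include hsemi h9 hC hst in
/-- (C1) the stabiliser is transitive on `C` -/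
theorem a1_trans {x y : Sylow 3 G} (hx : x ∈ C) (hy : y ∈ C) :
    ∃ g ∈ MulAction.stabilizer G C, g • x = y := by
  by_cases hxy : x = y
  · exact ⟨1, one_mem _, by rw [one_smul, hxy]⟩
  · have hz : ∃ z ∈ C, z ≠ x ∧ z ≠ y := by
      by_contra hcon
      push Not at hcon
      have hsub : C ⊆ {x, y} := by
        intro z hz
        by_cases hzx : z = x
        · exact Or.inl hzx
        · exact Or.inr (hcon z hz hzx)
      have h1 := Set.ncard_le_ncard hsub (Set.toFinite _)
      have h2 : ({x, y} : Set (Sylow 3 G)).ncard ≤ 2 := by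
        rw [Set.ncard_pair hxy]
      omega
    obtain ⟨z, hzC, hzx, hzy⟩ := hz
    obtain ⟨u, hu, huy⟩ := a1_regular hsemi h9 hC hst hzC hx (Ne.symm hzx) hy (Ne.symm hzy)
    exact ⟨u, a1_le_stab hst hzC hu, huy⟩

theorem a1_smul_mem {g : G} (hg : g ∈ MulAction.stabilizer G C) {x : Sylow 3 G} (hx : x ∈ C) :
    g • x ∈ C := by
  have h1 : g • x ∈ g • C := Set.smul_mem_smul_set hx
  rwa [MulAction.mem_stabilizer_iff.1 hg] at h1

include hsemi h9 hC hst in
/-- (C2) the stabiliser is 2-transitive on `C` -/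
theorem a1_two_trans {x y x' y' : Sylow 3 G} (hx : x ∈ C) (hy : y ∈ C) (hxy : x ≠ y)
    (hx' : x' ∈ C) (hy' : y' ∈ C) (hxy' : x' ≠ y') :
    ∃ g ∈ MulAction.stabilizer G C, g • x = x' ∧ g • y = y' := by
  obtain ⟨g, hg, hgx⟩ := a1_trans hsemi h9 hC hst hx hx'
  have hginv : g⁻¹ ∈ MulAction.stabilizer G C := inv_mem hg
  have h1 : g⁻¹ • y' ∈ C := a1_smul_mem hginv hy'
  have h2 : g⁻¹ • y' ≠ x := by
    intro h
    apply hxy'
    rw [← hgx, ← h, smul_inv_smul]
  obtain ⟨u, hu, huy⟩ := a1_regular hsemi h9 hC hst hx hy (Ne.symm hxy) h1 h2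
  refine ⟨g * u, mul_mem hg (a1_le_stab hst hx hu), ?_, ?_⟩
  · rw [mul_smul, a1_self_smul hu, hgx]
  · rw [mul_smul, huy, smul_inv_smul]

include hsemi h9 hC hst in
/-- (D) the two-point stabiliser lies in the stabiliser of `C` -/
theorem a1_Q_le {x y : Sylow 3 G} (hx : x ∈ C) (hy : y ∈ C) (hxy : x ≠ y) :
    Nrm x ⊓ Nrm y ≤ MulAction.stabilizer G C := by
  have key : ∀ g ∈ Nrm x ⊓ Nrm y, ∀ z ∈ C, g • z ∈ C := by
    intro g hg z hz
    have hgx : g • x = x := (a1_smul_eq_iff g x).2 (Subgroup.mem_inf.1 hg).1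
    have hgy : g • y = y := (a1_smul_eq_iff g y).2 (Subgroup.mem_inf.1 hg).2
    by_cases hzx : z = x
    · rw [hzx, hgx]; exact hx
    · obtain ⟨u, hu, huy⟩ := a1_regular hsemi h9 hC hst hx hy (Ne.symm hxy) hz hzx
      have h1 : g • z = (g * u * g⁻¹) • y := by
        rw [mul_smul, mul_smul, ← huy]
        congr 2
        rw [← hgy, inv_smul_smul, hgy]
      rw [h1]
      have h2 : g * u * g⁻¹ ∈ (x : Subgroup G) := by
        have := (Subgroup.mem_normalizer_iff.1 (Subgroup.mem_inf.1 hg).1 u).1 hu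
        exact this
      exact hst x hx _ h2 y hy
  intro g hg
  rw [MulAction.mem_stabilizer_iff]
  apply Set.Subset.antisymm
  · rw [Set.smul_set_subset_iff]
    intro z hz
    exact key g hg z hz
  · rw [Set.subset_smul_set_iff, Set.smul_set_subset_iff]
    intro z hz
    exact key g⁻¹ (inv_mem hg) z hz

include hsemi h9 hC hst in
/-- (E) the count: one orbit-stabiliser on ordered pairs -/
theorem card_stabilizer_clique_core (hcl : ∀ x ∈ C, ∀ y ∈ C, x ≠ y → Adj x y) :
    Nat.card (MulAction.stabilizer G C) = 720 := by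
  have hne : C.Nonempty := by
    rw [← Set.ncard_pos (Set.toFinite _), hC]; norm_num
  obtain ⟨x0, hx0⟩ := hne
  obtain ⟨y0, hy0, hyx0⟩ := Set.exists_ne_of_one_lt_ncard (by rw [hC]; norm_num : 1 < C.ncard) x0
  have hxy0 : x0 ≠ y0 := Ne.symm hyx0
  have h1 := MulAction.index_stabilizer (G := ↥(MulAction.stabilizer G C))
    (x := ((x0, y0) : Sylow 3 G × Sylow 3 G))
  have h2 := Subgroup.index_mul_card
    (MulAction.stabilizer ↥(MulAction.stabilizer G C) ((x0, y0) : Sylow 3 G × Sylow 3 G))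
  -- the orbit
  have horb : MulAction.orbit ↥(MulAction.stabilizer G C) ((x0, y0) : Sylow 3 G × Sylow 3 G)
      = (C ×ˢ C) \ ((fun x => (x, x)) '' C) := by
    ext ⟨a, b⟩
    constructor
    · rintro ⟨g, hg⟩
      have hga : (g : G) • x0 = a := congrArg Prod.fst hg
      have hgb : (g : G) • y0 = b := congrArg Prod.snd hg
      refine ⟨⟨?_, ?_⟩, ?_⟩
      · show a ∈ C
        rw [← hga]; exact a1_smul_mem g.2 hx0
      · show b ∈ C
        rw [← hgb]; exact a1_smul_mem g.2 hy0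
      · rintro ⟨c, _, hc⟩
        have hc1 : c = a := congrArg Prod.fst hc
        have hc2 : c = b := congrArg Prod.snd hc
        apply hxy0
        have : (g : G) • x0 = (g : G) • y0 := by rw [hga, hgb, ← hc1, ← hc2]
        exact MulAction.injective (g : G) this
    · rintro ⟨⟨ha, hb⟩, hab⟩
      have ha' : a ∈ C := ha
      have hb' : b ∈ C := hb
      have hne : a ≠ b := by
        intro h
        apply hab
        exact ⟨a, ha', by rw [h]⟩
      obtain ⟨g, hg, hga, hgb⟩ := a1_two_trans hsemi h9 hC hst hx0 hy0 hxy0 ha' hb' hne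
      refine ⟨⟨g, hg⟩, ?_⟩
      show ((g • x0, g • y0) : Sylow 3 G × Sylow 3 G) = (a, b)
      rw [hga, hgb]
  have hcard_orb : ((C ×ˢ C) \ ((fun x => (x, x)) '' C) : Set (Sylow 3 G × Sylow 3 G)).ncard = 90 := by
    have hsub : ((fun x => (x, x)) '' C : Set (Sylow 3 G × Sylow 3 G)) ⊆ C ×ˢ C := by
      rintro _ ⟨c, hc, rfl⟩
      exact ⟨hc, hc⟩
    rw [Set.ncard_sdiff hsub (Set.toFinite _), Set.ncard_prod, hC,
      Set.ncard_image_of_injective _ (fun a b h => congrArg Prod.fst h), hC]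
  -- the stabiliser
  have hQ : Nrm x0 ⊓ Nrm y0 ≤ MulAction.stabilizer G C := a1_Q_le hsemi h9 hC hst hx0 hy0 hxy0
  have hstab : Nat.card (MulAction.stabilizer ↥(MulAction.stabilizer G C)
      ((x0, y0) : Sylow 3 G × Sylow 3 G)) = 8 := by
    have hadj : Nat.card ↥(Nrm x0 ⊓ Nrm y0) = 8 := hcl x0 hx0 y0 hy0 hxy0
    rw [← hadj]
    refine Nat.card_congr
      { toFun := fun g => ⟨((g : ↥(MulAction.stabilizer G C)) : G), ?_⟩
        invFun := fun q => ⟨⟨(q : G), hQ q.2⟩, ?_⟩
        left_inv := fun g => rfl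
        right_inv := fun q => rfl }
    · have hg := g.2
      rw [MulAction.mem_stabilizer_iff] at hg
      have hga : ((g : ↥(MulAction.stabilizer G C)) : G) • x0 = x0 := congrArg Prod.fst hg
      have hgb : ((g : ↥(MulAction.stabilizer G C)) : G) • y0 = y0 := congrArg Prod.snd hg
      exact Subgroup.mem_inf.2 ⟨(a1_smul_eq_iff _ _).1 hga, (a1_smul_eq_iff _ _).1 hgb⟩
    · rw [MulAction.mem_stabilizer_iff]
      have hga : (q : G) • x0 = x0 := (a1_smul_eq_iff _ _).2 (Subgroup.mem_inf.1 q.2).1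
      have hgb : (q : G) • y0 = y0 := (a1_smul_eq_iff _ _).2 (Subgroup.mem_inf.1 q.2).2
      show (((q : G) • x0, (q : G) • y0) : Sylow 3 G × Sylow 3 G) = (x0, y0)
      rw [hga, hgb]
  rw [← h2, h1, horb, hcard_orb, hstab]

end core

end Cfsg.Agent.Lib.H16.M11U
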