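import Cfsg.Agent.Lib.H16.M11.ACT1
import Cfsg.Agent.Lib.H1.M11U.Base
import Cfsg.Agent.Lib.H9.M11SUB

/-!
# S0420, piece ACT1 (helper16 twin): exact signature of `tools/blueprints/S0420_sigs.lean`
-/

set_option autoImplicit false
open scoped Pointwise

universe u

namespace Cfsg.Agent.Lib.H16.M11U

open Cfsg.Agent.Lib.H1.M11U

variable {G : Type u} [Group G] [Finite G]

/-- (ACT1) `H = G_C` has order `10 * 72`. -/
theorem card_stabilizer_clique (h : Hyp G) {C : Set (Sylow 3 G)} (hC : C.ncard = 10)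
    (hcl : ∀ x ∈ C, ∀ y ∈ C, x ≠ y → Adj x y)
    (hst : ∀ x ∈ C, ∀ u ∈ (x : Subgroup G), ∀ y ∈ C, u • y ∈ C) :
    Nat.card (MulAction.stabilizer G C) = 720 :=
  card_stabilizer_clique_core
    (fun hne _ hu hu1 => Cfsg.Agent.Lib.H9.M11U.semireg h hne hu hu1)
    (fun P => card_sylow3_sub h P) hC hst hcl

end Cfsg.Agent.Lib.H16.M11U
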