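import Mathlib
import Cfsg.Prelude.Def_Sporadic_a

/-!
# S0420, piece STEINER (helper16)

A sharply 4-transitive action on 11 points preserves a Steiner system `S(4,5,11)`.
-/

set_option autoImplicit false
set_option linter.unusedSectionVars false

namespace Cfsg.Agent.Lib.H16.M11

open MulAction

variable {G α : Type*} [Group G] [MulAction G α]

/-- four pairwise distinct points -/
def D4 (a b c d : α) : Prop := a ≠ b ∧ a ≠ c ∧ a ≠ d ∧ b ≠ c ∧ b ≠ d ∧ c ≠ d

theorem inj4 {a b c d : α} (h : D4 a b c d) : Function.Injective ![a, b, c, d] := by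
  obtain ⟨h1, h2, h3, h4, h5, h6⟩ := h
  intro i j hij
  fin_cases i <;> fin_cases j <;> simp_all

/-- the embedding `Fin 4 ↪ α` of four distinct points -/
def emb4 {a b c d : α} (h : D4 a b c d) : Fin 4 ↪ α := ⟨![a, b, c, d], inj4 h⟩

theorem ex4 (h4 : IsMultiplyPretransitive G α 4) {a b c d a' b' c' d' : α} (h : D4 a b c d)
    (h' : D4 a' b' c' d') : ∃ g : G, g • a = a' ∧ g • b = b' ∧ g • c = c' ∧ g • d = d' := by
  obtain ⟨g, hg⟩ := h4.exists_smul_eq (emb4 h) (emb4 h')
  refine ⟨g, ?_, ?_, ?_, ?_⟩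
  · simpa [emb4] using DFunLike.congr_fun hg 0
  · simpa [emb4] using DFunLike.congr_fun hg 1
  · simpa [emb4] using DFunLike.congr_fun hg 2
  · simpa [emb4] using DFunLike.congr_fun hg 3

theorem fix4 (hs : ∀ x : Fin 4 ↪ α, stabilizer G x = ⊥) {a b c d : α} (h : D4 a b c d) {g : G}
    (ha : g • a = a) (hb : g • b = b) (hc : g • c = c) (hd : g • d = d) : g = 1 := by
  have : g ∈ stabilizer G (emb4 h) := by
    rw [mem_stabilizer_iff]
    ext i
    fin_cases i <;> simp [emb4, ha, hb, hc, hd]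
  rw [hs] at this
  exact Subgroup.mem_bot.mp this

theorem eq4 (hs : ∀ x : Fin 4 ↪ α, stabilizer G x = ⊥) {a b c d : α} (h : D4 a b c d) {g g' : G}
    (ha : g • a = g' • a) (hb : g • b = g' • b) (hc : g • c = g' • c) (hd : g • d = g' • d) :
    g = g' := by
  have : g'⁻¹ * g = 1 := by
    apply fix4 hs h <;> rw [mul_smul, inv_smul_eq_iff] <;> assumption
  exact (inv_mul_eq_one.mp this).symm


section fix
variable [Fintype α] [DecidableEq α]

/-- the fixed points of `t` as a Finset -/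
def Fx (t : G) : Finset α := Finset.univ.filter fun y => t • y = y

theorem mem_Fx {t : G} {y : α} : y ∈ Fx t ↔ t • y = y := by simp [Fx]

theorem card_Fx_le (hs : ∀ x : Fin 4 ↪ α, stabilizer G x = ⊥) {t : G} (ht : t ≠ 1) :
    (Fx t : Finset α).card ≤ 3 := by
  by_contra hlt
  rw [not_le] at hlt
  obtain ⟨a, ha, b, hb, c, hc, d, hd, h1, h2, h3, h4, h5, h6⟩ := Finset.three_lt_card.mp hlt
  exact ht (fix4 hs ⟨h1, h2, h3, h4, h5, h6⟩ (mem_Fx.mp ha) (mem_Fx.mp hb) (mem_Fx.mp hc)
    (mem_Fx.mp hd))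

theorem card_Fx_mod (hα : Fintype.card α = 11) {t : G} (h3 : t ^ 3 = 1) :
    (Fx t : Finset α).card % 3 = 2 := by
  have : Fact (Nat.Prime 3) := ⟨by norm_num⟩
  have hp : IsPGroup 3 (Subgroup.zpowers t) := by
    intro g
    obtain ⟨g, k, rfl⟩ := g
    refine ⟨1, ?_⟩
    ext
    simp only [pow_one, Subgroup.coe_pow, Subgroup.coe_one]
    rw [← zpow_natCast, ← zpow_mul, mul_comm, zpow_mul, zpow_natCast, h3, one_zpow]
  have h := hp.card_modEq_card_fixedPoints α
  have hfix : Nat.card (fixedPoints (Subgroup.zpowers t) α) = (Fx t : Finset α).card := by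
    rw [← Nat.card_eq_finsetCard]
    apply Nat.card_congr
    refine Equiv.subtypeEquivRight fun y => ?_
    rw [mem_fixedPoints, mem_Fx]
    constructor
    · intro h
      exact h ⟨t, Subgroup.mem_zpowers t⟩
    · rintro h ⟨g, k, rfl⟩
      show (t ^ k) • y = y
      exact mem_stabilizer_iff.mp ((stabilizer G y).zpow_mem (mem_stabilizer_iff.mpr h) k)
  rw [hfix, Nat.card_eq_fintype_card, hα] at h
  have := h.symm
  unfold Nat.ModEq at this
  omega

theorem card_Fx (hα : Fintype.card α = 11) (hs : ∀ x : Fin 4 ↪ α, stabilizer G x = ⊥) {t : G}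
    (ht : t ≠ 1) (h3 : t ^ 3 = 1) : (Fx t : Finset α).card = 2 := by
  have h1 := card_Fx_le hs ht
  have h2 := card_Fx_mod hα h3
  omega


omit [Fintype α] in
theorem fourth {S : Finset α} (hS : S.card = 4) {p q r : α} (hp : p ∈ S) (hq : q ∈ S) (hr : r ∈ S)
    (hpq : p ≠ q) (hpr : p ≠ r) (hqr : q ≠ r) :
    ∃ a, a ∈ S ∧ a ≠ p ∧ a ≠ q ∧ a ≠ r ∧ S = {a, p, q, r} := by
  have hsub : ({p, q, r} : Finset α) ⊆ S := by
    intro y hy
    simp only [Finset.mem_insert, Finset.mem_singleton] at hy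
    rcases hy with rfl | rfl | rfl <;> assumption
  have hc3 : ({p, q, r} : Finset α).card = 3 :=
    Finset.card_eq_three.mpr ⟨p, q, r, hpq, hpr, hqr, rfl⟩
  have hd : (S \ {p, q, r}).card = 1 := by
    rw [Finset.card_sdiff_of_subset hsub, hS, hc3]
  obtain ⟨a, ha⟩ := Finset.card_eq_one.mp hd
  have ha' : a ∈ S \ {p, q, r} := by rw [ha]; simp
  rw [Finset.mem_sdiff] at ha'
  simp only [Finset.mem_insert, Finset.mem_singleton, not_or] at ha'
  refine ⟨a, ha'.1, ha'.2.1, ha'.2.2.1, ha'.2.2.2, ?_⟩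
  ext y
  constructor
  · intro hy
    by_cases hy' : y ∈ ({p, q, r} : Finset α)
    · simp only [Finset.mem_insert, Finset.mem_singleton] at hy' ⊢
      tauto
    · have : y ∈ S \ {p, q, r} := Finset.mem_sdiff.mpr ⟨hy, hy'⟩
      rw [ha] at this
      simp only [Finset.mem_singleton] at this
      simp [this]
  · intro hy
    simp only [Finset.mem_insert, Finset.mem_singleton] at hy
    rcases hy with rfl | rfl | rfl | rfl
    · exact ha'.1
    · exact hp
    · exact hq
    · exact hr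

/-- `t` is an element of order 3 preserving the set `S`, with a fixed point `x` outside `S`. -/
def Tri (t : G) (S : Finset α) (x : α) : Prop :=
  t ≠ 1 ∧ t ^ 3 = 1 ∧ (∀ s ∈ S, t • s ∈ S) ∧ x ∉ S ∧ t • x = x

omit [Fintype α] [DecidableEq α] in
theorem cube_smul {t : G} (h3 : t ^ 3 = 1) (y : α) : t • t • t • y = y := by
  rw [← mul_smul, ← mul_smul, ← pow_three', h3, one_smul]

omit [Fintype α] [DecidableEq α] in
/-- an element of order 3 which fixes `t • y` fixes `y`. -/
theorem fix_of_sq {t : G} (h3 : t ^ 3 = 1) {y : α} (h : t • t • y = y) : t • y = y := by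
  have := cube_smul h3 y
  rw [h] at this
  exact this

variable (hα : Fintype.card α = 11) (hs : ∀ x : Fin 4 ↪ α, stabilizer G x = ⊥)
include hα hs

/-- the two fixed points of a `Tri`. -/
theorem Tri.fixed {t : G} {S : Finset α} {x : α} (h : Tri t S x) {y z : α} (hy : t • y = y)
    (hz : t • z = z) (hyx : y ≠ x) (hzx : z ≠ x) : y = z := by
  obtain ⟨ht, h3, -, -, hx⟩ := h
  have hc := card_Fx hα hs ht h3
  obtain ⟨u, v, huv, he⟩ := Finset.card_eq_two.mp hc
  have hy' : y ∈ ({u, v} : Finset α) := he ▸ mem_Fx.mpr hy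
  have hz' : z ∈ ({u, v} : Finset α) := he ▸ mem_Fx.mpr hz
  have hx' : x ∈ ({u, v} : Finset α) := he ▸ mem_Fx.mpr hx
  simp only [Finset.mem_insert, Finset.mem_singleton] at hy' hz' hx'
  rcases hy' with rfl | rfl <;> rcases hz' with rfl | rfl <;> rcases hx' with rfl | rfl <;>
    first | rfl | (exfalso; exact hyx rfl) | (exfalso; exact hzx rfl)

/-- a point of `S` other than the fixed point is moved. -/
theorem Tri.moved {t : G} {S : Finset α} {x : α} (h : Tri t S x) {a p : α} (haS : a ∈ S)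
    (ha : t • a = a) (hpS : p ∈ S) (hpa : p ≠ a) : t • p ≠ p := by
  intro hp
  have hax : a ≠ x := fun e => h.2.2.2.1 (e ▸ haS)
  have hpx : p ≠ x := fun e => h.2.2.2.1 (e ▸ hpS)
  exact hpa (h.fixed hα hs hp ha hpx hax)

omit hα hs in
/-- structure of a `Tri` on a 4-set, starting from a moved point. -/
theorem Tri.shape_at {t : G} {S : Finset α} {x : α} (hS : S.card = 4) (h : Tri t S x) {p : α}
    (hpS : p ∈ S) (hp : t • p ≠ p) :
    ∃ a, D4 a p (t • p) (t • t • p) ∧ S = {a, p, t • p, t • t • p} ∧ t • a = a := by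
  obtain ⟨ht, h3, hpres, hxS, hx⟩ := h
  have hqS := hpres p hpS
  have hrS := hpres _ hqS
  have hpq : p ≠ t • p := fun e => hp e.symm
  have hqr : t • p ≠ t • t • p := fun e => hp (smul_left_cancel t e).symm
  have hpr : p ≠ t • t • p := fun e => hp (fix_of_sq h3 e.symm)
  obtain ⟨a, haS, hap, haq, har, hSe⟩ := fourth hS hpS hqS hrS hpq hpr hqr
  refine ⟨a, ⟨hap, haq, har, hpq, hpr, hqr⟩, hSe, ?_⟩
  have hta := hpres a haS
  rw [hSe] at hta
  simp only [Finset.mem_insert, Finset.mem_singleton] at hta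
  rcases hta with e | e | e | e
  · exact e
  · exfalso
    rw [← cube_smul h3 p] at e
    exact har (smul_left_cancel t e)
  · exfalso
    exact hap (smul_left_cancel t e)
  · exfalso
    exact haq (smul_left_cancel t e)

/-- a `Tri` on a 4-set has a fixed point in the set. -/
theorem Tri.exists_fixed {t : G} {S : Finset α} {x : α} (hS : S.card = 4) (h : Tri t S x) :
    ∃ a ∈ S, t • a = a := by
  have h' := h
  obtain ⟨ht, h3, hpres, hxS, hx⟩ := h
  have hex : ∃ p ∈ S, t • p ≠ p := by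
    by_contra hno
    simp only [not_exists, not_and, not_not] at hno
    obtain ⟨y, z, u, v, hyz, -, -, -, -, -, rfl⟩ := Finset.card_eq_four.mp hS
    have hy := hno y (by simp)
    have hz := hno z (by simp)
    have hyx : y ≠ x := fun e => hxS (e ▸ by simp)
    have hzx : z ≠ x := fun e => hxS (e ▸ by simp)
    exact hyz (h'.fixed hα hs hy hz hyx hzx)
  obtain ⟨p, hpS, hp⟩ := hex
  obtain ⟨a, -, hSe, ha⟩ := h'.shape_at hS hpS hp
  exact ⟨a, by rw [hSe]; simp, ha⟩

omit hα hs in
theorem Tri.inv {t : G} {S : Finset α} {x : α} (h : Tri t S x) : Tri t⁻¹ S x := by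
  obtain ⟨ht, h3, hpres, hxS, hx⟩ := h
  have hinv : t⁻¹ = t * t := by
    rw [inv_eq_iff_mul_eq_one, ← mul_assoc]
    rw [← pow_three'] at *
    exact h3
  refine ⟨inv_ne_one.mpr ht, by rw [inv_pow, h3, inv_one], ?_, hxS, by rw [inv_smul_eq_iff, hx]⟩
  intro s hsS
  rw [hinv, mul_smul]
  exact hpres _ (hpres _ hsS)

/-- two `Tri`s with a common fixed point in `S` agreeing on one more point are equal. -/
theorem Tri.eq_of_agree {t t' : G} {S : Finset α} {x x' : α} (hS : S.card = 4) (h : Tri t S x)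
    (h' : Tri t' S x') {a p : α} (haS : a ∈ S) (ha : t • a = a) (ha' : t' • a = a) (hpS : p ∈ S)
    (hpa : p ≠ a) (hp : t • p = t' • p) : t = t' := by
  have hm := h.moved hα hs haS ha hpS hpa
  have hm' := h'.moved hα hs haS ha' hpS hpa
  obtain ⟨a₁, hD, hSe, ha₁⟩ := h.shape_at hS hpS hm
  obtain ⟨a₂, hD', hSe', ha₂⟩ := h'.shape_at hS hpS hm'
  have ha₁S : a₁ ∈ S := by rw [hSe]; simp
  have ha₂S : a₂ ∈ S := by rw [hSe']; simp
  have hxS := h.2.2.2.1
  have hxS' := h'.2.2.2.1
  have e1 : a₁ = a := h.fixed hα hs ha₁ ha (fun e => hxS (e ▸ ha₁S)) (fun e => hxS (e ▸ haS))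
  have e2 : a₂ = a := h'.fixed hα hs ha₂ ha' (fun e => hxS' (e ▸ ha₂S)) (fun e => hxS' (e ▸ haS))
  subst e1
  subst e2
  -- r' = r
  have hr' : t' • t' • p ∈ S := by rw [hSe']; simp
  rw [hSe, ← hp] at hr'
  simp only [Finset.mem_insert, Finset.mem_singleton] at hr'
  obtain ⟨d1, d2, d3, d4, d5, d6⟩ := hD
  obtain ⟨d1', d2', d3', d4', d5', d6'⟩ := hD'
  rw [← hp] at d2' d3' d4' d5' d6'
  have hq : t' • t • p = t • t • p := by
    rcases hr' with e | e | e | e
    · exact absurd e.symm d3'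
    · exact absurd e.symm d5'
    · exact absurd e.symm d6'
    · exact e
  have h3 := h.2.1
  have h3' := h'.2.1
  refine eq4 hs ⟨d1, d2, d3, d4, d5, d6⟩ (ha.trans ha'.symm) hp hq.symm ?_
  rw [cube_smul h3 p]
  have : t' • t • t • p = t' • t' • t' • p := by rw [← hq, ← hp]
  rw [this, cube_smul h3' p]

/-- two `Tri`s on `S` with a common fixed point in `S` have the same outer fixed point. -/
theorem Tri.outer_eq_of_common {t t' : G} {S : Finset α} {x x' : α} (hS : S.card = 4)
    (h : Tri t S x) (h' : Tri t' S x') {a : α} (haS : a ∈ S) (ha : t • a = a)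
    (ha' : t' • a = a) : x' = x := by
  -- enough: t' = t or t' = t⁻¹
  have key : t' = t ∨ t' = t⁻¹ := by
    obtain ⟨y, z, u, v, hyz, -, -, -, -, -, hSe⟩ := Finset.card_eq_four.mp hS
    have hyS : y ∈ S := by rw [hSe]; simp
    have hzS : z ∈ S := by rw [hSe]; simp
    obtain ⟨p, hpS, hpa⟩ : ∃ p ∈ S, p ≠ a := by
      by_cases hya : y = a
      · exact ⟨z, hzS, fun e => hyz (hya.trans e.symm)⟩
      · exact ⟨y, hyS, hya⟩
    have hm := h.moved hα hs haS ha hpS hpa
    have hm' := h'.moved hα hs haS ha' hpS hpa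
    obtain ⟨a₁, hD, hSe₁, ha₁⟩ := h.shape_at hS hpS hm
    have hxS := h.2.2.2.1
    have ha₁S : a₁ ∈ S := by rw [hSe₁]; simp
    have e1 : a₁ = a := h.fixed hα hs ha₁ ha (fun e => hxS (e ▸ ha₁S)) (fun e => hxS (e ▸ haS))
    subst e1
    have hq' : t' • p ∈ S := h'.2.2.1 p hpS
    rw [hSe₁] at hq'
    simp only [Finset.mem_insert, Finset.mem_singleton] at hq'
    rcases hq' with e | e | e | e
    · exfalso
      rw [← ha'] at e
      exact hpa (smul_left_cancel t' e)
    · exact absurd e hm'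
    · left
      exact (h.eq_of_agree hα hs hS h' haS ha ha' hpS hpa e.symm).symm
    · right
      have hinv : t⁻¹ • p = t • t • p := by
        rw [inv_smul_eq_iff, cube_smul h.2.1]
      refine (h.inv.eq_of_agree hα hs hS h' haS ?_ ha' hpS hpa (hinv.trans e.symm)).symm
      rw [inv_smul_eq_iff, ha]
  have hx't : t • x' = x' := by
    rcases key with e | e
    · rw [← e]; exact h'.2.2.2.2
    · have := h'.2.2.2.2
      rw [e, inv_smul_eq_iff] at this
      exact this.symm
  by_contra hne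
  have hax : a ≠ x := fun e => h.2.2.2.1 (e ▸ haS)
  have := h.fixed hα hs hx't ha hne hax
  exact h'.2.2.2.1 (this ▸ haS)


omit hα hs [Fintype α] in
theorem two_more {S : Finset α} (hS : S.card = 4) {a a' : α} (haS : a ∈ S) (ha'S : a' ∈ S)
    (hne : a ≠ a') : ∃ c d, D4 a a' c d ∧ S = {a, a', c, d} := by
  have h1 : ((S.erase a).erase a').card = 2 := by
    rw [Finset.card_erase_of_mem (Finset.mem_erase.mpr ⟨hne.symm, ha'S⟩),
      Finset.card_erase_of_mem haS, hS]
  obtain ⟨c, d, hcd, he⟩ := Finset.card_eq_two.mp h1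
  have hc : c ∈ (S.erase a).erase a' := by rw [he]; simp
  have hd : d ∈ (S.erase a).erase a' := by rw [he]; simp
  simp only [Finset.mem_erase] at hc hd
  refine ⟨c, d, ⟨hne, hc.2.1.symm, hd.2.1.symm, hc.1.symm, hd.1.symm, hcd⟩, ?_⟩
  rw [← he, Finset.insert_erase (Finset.mem_erase.mpr ⟨hne.symm, ha'S⟩), Finset.insert_erase haS]

omit hα hs [Fintype α] in
/-- conjugating a `Tri`. -/
theorem Tri.conj {t : G} {S : Finset α} {x : α} (h : Tri t S x) (g : G) :
    Tri (g * t * g⁻¹) (S.image fun y => g • y) (g • x) := by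
  obtain ⟨ht, h3, hpres, hxS, hx⟩ := h
  refine ⟨?_, ?_, ?_, ?_, ?_⟩
  · intro e
    apply ht
    have := congrArg (fun u => g⁻¹ * u * g) e
    simpa [mul_assoc] using this
  · rw [conj_pow, h3, mul_one, mul_inv_cancel]
  · intro s hsS
    obtain ⟨y, hy, rfl⟩ := Finset.mem_image.mp hsS
    rw [mul_smul, mul_smul, inv_smul_smul]
    exact Finset.mem_image.mpr ⟨t • y, hpres y hy, rfl⟩
  · intro hmem
    obtain ⟨y, hy, e⟩ := Finset.mem_image.mp hmem
    exact hxS (smul_left_cancel g e ▸ hy)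
  · rw [mul_smul, mul_smul, inv_smul_smul, hx]

/-- (key lemma) all `Tri`s on a 4-set have the same outer fixed point. -/
theorem Tri.outer_eq (h4 : IsMultiplyPretransitive G α 4) {t t' : G} {S : Finset α} {x x' : α}
    (hS : S.card = 4) (h : Tri t S x) (h' : Tri t' S x') : x' = x := by
  obtain ⟨a, haS, ha⟩ := h.exists_fixed hα hs hS
  obtain ⟨a', ha'S, ha'⟩ := h'.exists_fixed hα hs hS
  by_cases hne : a = a'
  · subst hne
    exact h.outer_eq_of_common hα hs hS h' haS ha ha'
  · obtain ⟨c, d, hD, hSe⟩ := two_more hS haS ha'S hne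
    have hD' : D4 a a' d c := by
      obtain ⟨d1, d2, d3, d4, d5, d6⟩ := hD
      exact ⟨d1, d3, d2, d5, d4, d6.symm⟩
    obtain ⟨τ, τa, τa', τc, τd⟩ := ex4 h4 hD hD'
    have himg : (S.image fun y => τ • y) = S := by
      rw [hSe]
      simp only [Finset.image_insert, Finset.image_singleton, τa, τa', τc, τd]
      ext y
      simp only [Finset.mem_insert, Finset.mem_singleton]
      tauto
    have hτ1 : τ ≠ 1 := by
      intro e
      rw [e, one_smul] at τc
      exact hD.2.2.2.2.2 τc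
    -- τ fixes x
    have hc := h.conj τ
    rw [himg] at hc
    have e1 : τ • x = x := by
      refine h.outer_eq_of_common hα hs hS hc haS ha ?_
      rw [mul_smul, mul_smul, inv_smul_eq_iff.mpr τa.symm, ha, τa]
    have hc' := h'.conj τ
    rw [himg] at hc'
    have e2 : τ • x' = x' := by
      refine h'.outer_eq_of_common hα hs hS hc' ha'S ha' ?_
      rw [mul_smul, mul_smul, inv_smul_eq_iff.mpr τa'.symm, ha', τa']
    by_contra hxx
    have hxS := h.2.2.2.1
    have hx'S := h'.2.2.2.1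
    have hD'' : D4 a a' x x' :=
      ⟨hne, fun e => hxS (e ▸ haS), fun e => hx'S (e ▸ haS), fun e => hxS (e ▸ ha'S),
        fun e => hx'S (e ▸ ha'S), fun e => hxx e.symm⟩
    exact hτ1 (fix4 hs hD'' τa τa' e1 e2)

/-- existence of a `Tri` on four given points. -/
theorem exists_tri (h4 : IsMultiplyPretransitive G α 4) {a b c d : α} (hD : D4 a b c d) :
    ∃ (t : G) (x : α), Tri t ({a, b, c, d} : Finset α) x ∧ t • a = a ∧ t • b = c ∧ t • c = d ∧
      t • d = b := by
  have hD' : D4 a c d b := by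
    obtain ⟨d1, d2, d3, d4, d5, d6⟩ := hD
    exact ⟨d2, d3, d1, d6, d4.symm, d5.symm⟩
  obtain ⟨t, ta, tb, tc, td⟩ := ex4 h4 hD hD'
  have ht : t ≠ 1 := by
    intro e
    rw [e, one_smul] at tb
    exact hD.2.2.2.1 tb
  have h3 : t ^ 3 = 1 := by
    apply fix4 hs hD <;> rw [pow_three', mul_smul, mul_smul]
    · rw [ta, ta, ta]
    · rw [tb, tc, td]
    · rw [tc, td, tb]
    · rw [td, tb, tc]
  have hc := card_Fx hα hs ht h3
  obtain ⟨u, v, huv, he⟩ := Finset.card_eq_two.mp hc
  have haF : a ∈ ({u, v} : Finset α) := he ▸ mem_Fx.mpr ta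
  -- the other fixed point
  obtain ⟨x, hxa, hx⟩ : ∃ x, x ≠ a ∧ t • x = x := by
    simp only [Finset.mem_insert, Finset.mem_singleton] at haF
    rcases haF with rfl | rfl
    · exact ⟨v, huv.symm, mem_Fx.mp (he ▸ by simp)⟩
    · exact ⟨u, huv, mem_Fx.mp (he ▸ by simp)⟩
  refine ⟨t, x, ⟨ht, h3, ?_, ?_, hx⟩, ta, tb, tc, td⟩
  · intro s hsS
    simp only [Finset.mem_insert, Finset.mem_singleton] at hsS ⊢
    rcases hsS with rfl | rfl | rfl | rfl
    · left; exact ta
    · right; right; left; exact tb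
    · right; right; right; exact tc
    · right; left; exact td
  · intro hxS
    simp only [Finset.mem_insert, Finset.mem_singleton] at hxS
    obtain ⟨d1, d2, d3, d4, d5, d6⟩ := hD
    rcases hxS with rfl | rfl | rfl | rfl
    · exact hxa rfl
    · rw [tb] at hx; exact d4 hx.symm
    · rw [tc] at hx; exact d6 hx.symm
    · rw [td] at hx; exact d5 hx


omit hα hs [Fintype α] in
theorem with_first {S : Finset α} (hS : S.card = 4) {a : α} (haS : a ∈ S) :
    ∃ p q r, D4 a p q r ∧ S = {a, p, q, r} := by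
  have h1 : (S.erase a).card = 3 := by rw [Finset.card_erase_of_mem haS, hS]
  obtain ⟨p, q, r, hpq, hpr, hqr, he⟩ := Finset.card_eq_three.mp h1
  have hp : p ∈ S.erase a := by rw [he]; simp
  have hq : q ∈ S.erase a := by rw [he]; simp
  have hr : r ∈ S.erase a := by rw [he]; simp
  simp only [Finset.mem_erase] at hp hq hr
  refine ⟨p, q, r, ⟨hp.1.symm, hq.1.symm, hr.1.symm, hpq, hpr, hqr⟩, ?_⟩
  rw [← he, Finset.insert_erase haS]

/-- the blocks: a 4-set together with the outer fixed point of its elements of order 3. -/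
def blocks (G : Type*) {α : Type*} [Group G] [MulAction G α] [DecidableEq α] :
    Set (Finset α) :=
  {b | ∃ (S : Finset α) (x : α) (t : G), S.card = 4 ∧ Tri t S x ∧ b = insert x S}

/-- a block containing the 4-set `S₀` is the block of `S₀`. -/
theorem block_unique (h4 : IsMultiplyPretransitive G α 4) {t₁ t₀ : G} {S₁ S₀ : Finset α}
    {x₁ x₀ : α} (hS₁ : S₁.card = 4) (hS₀ : S₀.card = 4) (h₁ : Tri t₁ S₁ x₁) (h₀ : Tri t₀ S₀ x₀)
    (hsub : S₀ ⊆ insert x₁ S₁) : insert x₁ S₁ = insert x₀ S₀ := by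
  by_cases hSS : S₀ = S₁
  · subst hSS
    rw [h₁.outer_eq hα hs h4 hS₀ h₀]
  · have hx₁S₁ := h₁.2.2.2.1
    have hx₁ : x₁ ∈ S₀ := by
      by_contra hx
      apply hSS
      apply Finset.eq_of_subset_of_card_le _ (by rw [hS₀, hS₁])
      intro y hy
      have := hsub hy
      rw [Finset.mem_insert] at this
      rcases this with rfl | h
      · exact absurd hy hx
      · exact h
    obtain ⟨s', hs'S₁, hs'S₀⟩ : ∃ s' ∈ S₁, s' ∉ S₀ := by
      by_contra hno
      simp only [not_exists, not_and, not_not] at hno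
      exact hSS (Finset.eq_of_subset_of_card_le hno (by rw [hS₀, hS₁])).symm
    obtain ⟨u, v, w, hD, hSe⟩ := with_first hS₁ hs'S₁
    obtain ⟨d1, d2, d3, d4, d5, d6⟩ := hD
    have hxu : x₁ ≠ u := fun e => hx₁S₁ (by rw [hSe, e]; simp)
    have hxv : x₁ ≠ v := fun e => hx₁S₁ (by rw [hSe, e]; simp)
    have hxw : x₁ ≠ w := fun e => hx₁S₁ (by rw [hSe, e]; simp)
    have hS₀e : S₀ = {x₁, u, v, w} := by
      apply Finset.eq_of_subset_of_card_le
      · intro y hy
        have := hsub hy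
        rw [hSe] at this
        simp only [Finset.mem_insert, Finset.mem_singleton] at this ⊢
        rcases this with h | h | h | h | h
        · left; exact h
        · exact absurd (h ▸ hy) hs'S₀
        · right; left; exact h
        · right; right; left; exact h
        · right; right; right; exact h
      · rw [hS₀, Finset.card_eq_four.mpr ⟨x₁, u, v, w, hxu, hxv, hxw, d4, d5, d6, rfl⟩]
    obtain ⟨t₂, x₂, hT₂, ts, tu, tv, tw⟩ := exists_tri hα hs h4 ⟨d1, d2, d3, d4, d5, d6⟩
    rw [← hSe] at hT₂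
    have hx₂ : x₂ = x₁ := h₁.outer_eq hα hs h4 hS₁ hT₂
    subst hx₂
    have hT₂' : Tri t₂ S₀ s' := by
      refine ⟨hT₂.1, hT₂.2.1, ?_, hs'S₀, ts⟩
      intro y hy
      rw [hS₀e] at hy ⊢
      simp only [Finset.mem_insert, Finset.mem_singleton] at hy ⊢
      rcases hy with rfl | rfl | rfl | rfl
      · left; exact hT₂.2.2.2.2
      · right; right; left; exact tu
      · right; right; right; exact tv
      · right; left; exact tw
    have hs' : s' = x₀ := h₀.outer_eq hα hs h4 hS₀ hT₂'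
    subst hs'
    rw [hSe, hS₀e]
    ext y
    simp only [Finset.mem_insert, Finset.mem_singleton]
    tauto


open scoped Pointwise in
omit hα hs [Fintype α] in
theorem smul_blocks_subset (g : G) : (MulAction.toPermHom G α g) • blocks G (α := α) ⊆ blocks G := by
  rintro _ ⟨b, ⟨S, x, t, hS, hT, rfl⟩, rfl⟩
  refine ⟨S.image fun y => g • y, g • x, g * t * g⁻¹, ?_, hT.conj g, ?_⟩
  · rw [Finset.card_image_of_injective _ (MulAction.injective g), hS]
  · ext y
    simp only [Finset.mem_smul_finset, Finset.mem_insert, Finset.mem_image, Equiv.Perm.smul_def,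
      MulAction.toPermHom_apply, MulAction.toPerm_apply]
    constructor
    · rintro ⟨z, hz | hz, rfl⟩
      · left; rw [hz]
      · right; exact ⟨z, hz, rfl⟩
    · rintro (rfl | ⟨z, hz, rfl⟩)
      · exact ⟨x, Or.inl rfl, rfl⟩
      · exact ⟨z, Or.inr hz, rfl⟩

end fix

open scoped Pointwise in
/-- (STEINER) a sharply 4-transitive action on 11 points preserves a Steiner system S(4,5,11). -/
theorem steiner_of_sharply_four {G α : Type*} [Group G] [MulAction G α] [Fintype α] [DecidableEq α]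
    (hα : Fintype.card α = 11) (h4 : MulAction.IsMultiplyPretransitive G α 4)
    (hs : ∀ x : Fin 4 ↪ α, MulAction.stabilizer G x = ⊥) :
    ∃ B : Set (Finset α), Cfsg.IsSteinerSystem 4 5 B ∧
      ∀ g : G, MulAction.toPermHom G α g ∈ Cfsg.setSystemAut B := by
  refine ⟨blocks G, ⟨?_, ?_⟩, ?_⟩
  · rintro b ⟨S, x, t, hS, hT, rfl⟩
    rw [Finset.card_insert_of_notMem hT.2.2.2.1, hS]
  · intro s hs4
    obtain ⟨a, b, c, d, d1, d2, d3, d4, d5, d6, rfl⟩ := Finset.card_eq_four.mp hs4
    obtain ⟨t, x, hT, -⟩ := exists_tri hα hs h4 ⟨d1, d2, d3, d4, d5, d6⟩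
    refine ⟨insert x {a, b, c, d}, ⟨⟨_, x, t, hs4, hT, rfl⟩, Finset.subset_insert _ _⟩, ?_⟩
    rintro b' ⟨⟨S₁, x₁, t₁, hS₁, hT₁, rfl⟩, hsub⟩
    exact block_unique hα hs h4 hS₁ hs4 hT₁ hT hsub
  · intro g
    rw [Cfsg.setSystemAut, MulAction.mem_stabilizer_iff]
    apply Set.Subset.antisymm (smul_blocks_subset g)
    have := smul_blocks_subset (α := α) g⁻¹
    rw [map_inv] at this
    intro b hb
    exact Set.mem_smul_set.mpr ⟨(MulAction.toPermHom G α g)⁻¹ • b,
      this (Set.smul_mem_smul_set hb), smul_inv_smul _ b⟩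

end Cfsg.Agent.Lib.H16.M11
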