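import Mathlib
import Cfsg.Prelude.Def_Sporadic_a
import Cfsg.Prelude.Def_Sporadic
import Cfsg.Agent.Lib.H16.M11.Steiner
import Cfsg.Agent.S0411
import Cfsg.Agent.S0426

/-!
# S0420, pieces AUTISO and END (helper16)

Two groups with sharply 4-transitive actions on 11 points are isomorphic.
-/

set_option autoImplicit false
set_option linter.unusedSectionVars false

namespace Cfsg.Agent.Lib.H16.M11

open MulAction
open scoped Pointwise

/-- the image of a set system under a bijection of the points. -/
theorem permCongr_smul_image {α β : Type*} [DecidableEq α] [DecidableEq β] (e : α ≃ β)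
    (σ : Equiv.Perm α) (b : Finset α) : (e.permCongr σ) • (b.image e) = (σ • b).image e := by
  ext y
  simp only [Finset.mem_smul_finset, Finset.mem_image, Equiv.Perm.smul_def, Equiv.permCongr_apply]
  constructor
  · rintro ⟨_, ⟨z, hz, rfl⟩, rfl⟩
    exact ⟨σ z, ⟨z, hz, rfl⟩, by simp⟩
  · rintro ⟨_, ⟨z, hz, rfl⟩, rfl⟩
    exact ⟨e z, ⟨z, hz, rfl⟩, by simp⟩

theorem permCongr_mem_aut {α β : Type*} [DecidableEq α] [DecidableEq β] {B : Set (Finset α)}
    (e : α ≃ β) {σ : Equiv.Perm α} (hσ : σ ∈ Cfsg.setSystemAut B) :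
    e.permCongr σ ∈ Cfsg.setSystemAut ((fun b : Finset α => b.image e) '' B) := by
  rw [Cfsg.setSystemAut, mem_stabilizer_iff] at hσ ⊢
  ext c
  constructor
  · rintro ⟨_, ⟨b, hb, rfl⟩, rfl⟩
    refine ⟨σ • b, ?_, (permCongr_smul_image e σ b).symm⟩
    rw [← hσ]
    exact Set.smul_mem_smul_set hb
  · rintro ⟨b, hb, rfl⟩
    rw [← hσ] at hb
    obtain ⟨b', hb', rfl⟩ := hb
    exact ⟨b'.image e, ⟨b', hb', rfl⟩, permCongr_smul_image e σ b'⟩

theorem image_image_symm {α β : Type*} [DecidableEq α] [DecidableEq β] (B : Set (Finset α))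
    (e : α ≃ β) :
    (fun b : Finset β => b.image e.symm) '' ((fun b : Finset α => b.image e) '' B) = B := by
  rw [Set.image_image]
  convert Set.image_id B using 2
  ext b
  simp [Finset.image_image]

/-- (AUTISO) isomorphic set systems have isomorphic automorphism groups. -/
theorem setSystemAut_iso {α β : Type*} [DecidableEq α] [DecidableEq β] {B : Set (Finset α)}
    {B' : Set (Finset β)} (h : Cfsg.SetSystemIso B B') :
    Nonempty (↥(Cfsg.setSystemAut B) ≃* ↥(Cfsg.setSystemAut B')) := by
  obtain ⟨e, rfl⟩ := h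
  refine ⟨{ toFun := fun σ => ⟨e.permCongr σ.1, permCongr_mem_aut e σ.2⟩
            invFun := fun τ => ⟨e.symm.permCongr τ.1, ?_⟩
            left_inv := ?_
            right_inv := ?_
            map_mul' := ?_ }⟩
  · have := permCongr_mem_aut e.symm τ.2
    rwa [image_image_symm] at this
  · intro σ
    ext x
    simp
  · intro τ
    ext x
    simp
  · intro σ τ
    ext x
    simp


section sharp

variable {G α : Type*} [Group G] [MulAction G α] [Fintype α] [DecidableEq α]

theorem exists_emb4 (hα : Fintype.card α = 11) : Nonempty (Fin 4 ↪ α) :=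
  Function.Embedding.nonempty_of_card_le (by rw [Fintype.card_fin, hα]; norm_num)

theorem toPermHom_injective (hα : Fintype.card α = 11)
    (hs : ∀ x : Fin 4 ↪ α, MulAction.stabilizer G x = ⊥) :
    Function.Injective (MulAction.toPermHom G α) := by
  rw [injective_iff_map_eq_one]
  intro g hg
  obtain ⟨x⟩ := exists_emb4 hα
  have : g ∈ stabilizer G x := by
    rw [mem_stabilizer_iff]
    ext i
    rw [Function.Embedding.smul_apply]
    have := congrArg (fun σ : Equiv.Perm α => σ (x i)) hg
    simpa using this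
  rw [hs] at this
  exact Subgroup.mem_bot.mp this

theorem card_of_sharp (hα : Fintype.card α = 11) (h4 : MulAction.IsMultiplyPretransitive G α 4)
    (hs : ∀ x : Fin 4 ↪ α, MulAction.stabilizer G x = ⊥) : Nat.card G = 7920 := by
  obtain ⟨x⟩ := exists_emb4 hα
  have hbij : Function.Bijective fun g : G => g • x := by
    constructor
    · intro g g' h
      have : g'⁻¹ * g ∈ stabilizer G x := by
        rw [mem_stabilizer_iff, mul_smul, inv_smul_eq_iff]
        exact h
      rw [hs] at this
      exact (inv_mul_eq_one.mp (Subgroup.mem_bot.mp this)).symm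
    · intro y
      exact h4.exists_smul_eq x y
  rw [Nat.card_eq_of_bijective _ hbij, Nat.card_eq_fintype_card, Fintype.card_embedding_eq,
    Fintype.card_fin, hα]
  rfl

/-- a group with a sharply 4-transitive action on 11 points is the full automorphism group of
the Steiner system it preserves. -/
theorem iso_aut (hα : Fintype.card α = 11) (h4 : MulAction.IsMultiplyPretransitive G α 4)
    (hs : ∀ x : Fin 4 ↪ α, MulAction.stabilizer G x = ⊥) :
    ∃ B : Set (Finset α), Cfsg.IsSteinerSystem 4 5 B ∧ Nonempty (G ≃* ↥(Cfsg.setSystemAut B)) := by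
  obtain ⟨B, hB, hG⟩ := steiner_of_sharply_four hα h4 hs
  refine ⟨B, hB, ?_⟩
  let φ : G →* ↥(Cfsg.setSystemAut B) := (MulAction.toPermHom G α).codRestrict _ hG
  have hinj : Function.Injective φ := by
    intro g g' h
    apply toPermHom_injective hα hs
    exact congrArg Subtype.val h
  have hcardG := card_of_sharp hα h4 hs
  have hcardA : Nat.card ↥(Cfsg.setSystemAut B) = 7920 := (Cfsg.Agent.S0426.result hα hB).1.2
  have : Finite G := Nat.finite_of_card_ne_zero (by rw [hcardG]; norm_num)
  have : Finite ↥(Cfsg.setSystemAut B) := Nat.finite_of_card_ne_zero (by rw [hcardA]; norm_num)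
  have hbij : Function.Bijective φ :=
    (Nat.bijective_iff_injective_and_card φ).mpr ⟨hinj, by rw [hcardG, hcardA]⟩
  exact ⟨MulEquiv.ofBijective φ hbij⟩

end sharp

/-- (END) two groups with sharply 4-transitive actions on 11 points are isomorphic. -/
theorem iso_of_sharply_four {G α H β : Type*} [Group G] [MulAction G α] [Fintype α] [DecidableEq α]
    [Group H] [MulAction H β] [Fintype β] [DecidableEq β]
    (hα : Fintype.card α = 11) (h4 : MulAction.IsMultiplyPretransitive G α 4)
    (hs : ∀ x : Fin 4 ↪ α, MulAction.stabilizer G x = ⊥)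
    (hβ : Fintype.card β = 11) (h4' : MulAction.IsMultiplyPretransitive H β 4)
    (hs' : ∀ x : Fin 4 ↪ β, MulAction.stabilizer H x = ⊥) :
    Nonempty (G ≃* H) := by
  obtain ⟨B, hB, ⟨e₁⟩⟩ := iso_aut hα h4 hs
  obtain ⟨B', hB', ⟨e₂⟩⟩ := iso_aut hβ h4' hs'
  obtain ⟨e₃⟩ := setSystemAut_iso (Cfsg.Agent.S0411.result hα hβ hB hB')
  exact ⟨(e₁.trans e₃).trans e₂.symm⟩

end Cfsg.Agent.Lib.H16.M11
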